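import Cfsg.Agent.Lib.Kon.Emb

/-! Kondo's characterisation of the alternating groups (helper14). -/

set_option autoImplicit false

namespace Cfsg.Lib.AltRec

open Subgroup Cfsg.Lib.Transfer Cfsg.Lib.Inv DihedralGroup Equiv Equiv.Perm Sum _root_.Cfsg.Lib.AltRec.Frame Tail

universe v

theorem cenEquiv {A L : Type*} [Group A] [Group L] (θ : A →* L) (i : Function.Injective θ) {a : A}
    (h : ∀ g, Commute g (θ a) → g ∈ θ.range) : Nonempty (centralizer ({θ a} : Set L) ≃* centralizer ({a} : Set A)) :=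
  ⟨(MulEquiv.ofBijective ((θ.comp (Subgroup.subtype _)).codRestrict (centralizer {θ a}) fun g =>
    mem_centralizer_singleton_iff.2 (Commute.map (mem_centralizer_singleton_iff.1 g.2) θ))
    ⟨fun _ _ e => Subtype.ext (i (congrArg Subtype.val e)), fun g => by
      have c := mem_centralizer_singleton_iff.1 g.2
      obtain ⟨x, e⟩ := h g c
      exact ⟨⟨x, mem_centralizer_singleton_iff.2 (i (by rwa [map_mul, map_mul, e]))⟩, Subtype.ext e⟩⟩).symm⟩

/-- The statement proved by induction. -/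
def Good (Ω : Type*) [Fintype Ω] [DecidableEq Ω] : Prop := ∀ (G : Type v) [Group G] [Finite G],
  (∀ H : Subgroup G, H.index ≠ 2) → ∀ zt : alternatingGroup Ω, orderOf zt = 2 → ∀ z : G, orderOf z = 2 →
    (centralizer ({z} : Set G) ≃* centralizer ({zt} : Set (alternatingGroup Ω))) →
      Nat.card G ≤ Nat.card (alternatingGroup Ω) ∧ (7 ≤ Fintype.card Ω → Nonempty (G ≃* alternatingGroup Ω))

variable {P R : Type*} {G : Type v} [Fintype P] [DecidableEq P] [Fintype R] [DecidableEq R] {α β : R} {τ : Perm R} [Group G]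
  {F : Frame P G} {S : Finset P} {ρ : G} {T : Tail α β τ} {ψ : alternatingGroup (Om P R) →* G} [Finite G] [Nontrivial P] {p : P}

theorem Emb.fx_one (M : Emb F S ρ T ψ) (hS : ∀ g, Commute g (F.zS S) → g ∈ ψ.range) (hp : (S.erase p).Nonempty)
    (ih : Good.{v} ((blk R {p})ᶜ : Finset (Om P R))) : Emb.Fx F ψ 1 := by
  let s : Finset (Om P R) := (blk R {p})ᶜ
  let C := centralizer (F.VT {p} : Set G)
  have mC : ∀ {g}, g ∈ C ↔ Commute g (F.z p) ∧ Commute g (F.h p true) := by intro g; rw [mem_cVT]; simp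
  have hz : ψ (T.fr.z p) = F.z p := by rw [← zS_single, M.hzS, zS_single]
  have mC' : ∀ {g}, ψ g ∈ C ↔ Commute g (T.fr.z p) ∧ Commute g (T.fr.h p true) := by
    have k : ∀ {a b}, Commute (ψ a) (ψ b) ↔ Commute a b := by
      intro a b; rw [Commute, SemiconjBy, ← map_mul, ← map_mul, M.inj.eq_iff]; rfl
    intro g
    rw [mC, ← k, ← k, hz]
    refine and_congr_right fun c => ?_
    rcases M.hv p with e | e <;> rw [e]
    exact ⟨fun h => h.mul_right c, fun h => by simpa [mul_assoc, F.z_sq] using h.mul_right c⟩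
  have sb : ∀ {u : alternatingGroup (Om P R)}, u = T.fr.z p ∨ u = T.fr.h p true ∨ u = T.fr.h p true * T.fr.z p →
      u.1.support ⊆ blk R {p} := by
    rintro u h (⟨⟨q, c⟩, b⟩ | x) m
    exacts [Tail.blk_l.2 (Finset.mem_singleton.2 (by_contra fun e => mem_support.1 m ((T.c4 h).2.2.1 q e c b))),
      absurd ((T.c4 h).2.2.2 rfl x) (mem_support.1 m)]
  let ι := alternatingGroup.ofSubtype s
  have fx : ∀ x, ∀ ω ∈ blk R {p}, (ι x).1 ω = ω := fun x ω m => ofSubtype_apply_of_not_mem _ (by simpa [s] using m)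
  have exι : ∀ g : alternatingGroup (Om P R), (∀ ω ∈ blk R {p}, g.1 ω = ω) → g ∈ ι.range := fun g h =>
    (alternatingGroup.mem_range_ofSubtype_iff _ _).2 fun ω m => by simpa [s] using fun k => mem_support.1 m (h ω k)
  let θ' : alternatingGroup s →* C := (ψ.comp ι).codRestrict C fun x => mC'.2
    ⟨Subtype.ext (comm_of_fix (fx x) (sb (.inl rfl))), Subtype.ext (comm_of_fix (fx x) (sb (.inr (.inl rfl))))⟩
  let π : C →* F.LT {p} := QuotientGroup.mk' _
  have eq : ∀ {x y : C}, π x = π y ↔ x.1⁻¹ * y ∈ F.VT {p} := QuotientGroup.eq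
  let θ := π.comp θ'
  have mz : F.z p ∈ F.VT {p} := single_VT (by simp) (by decide)
  have mv : ψ (T.fr.h p true) ∈ F.VT {p} := by
    have : F.h p true ∈ F.VT {p} := single_VT (by simp) (by decide)
    rcases M.hv p with e | e <;> rw [e]
    exacts [this, mul_mem this mz]
  have r2 : ∀ g : C, g.1 ∈ ψ.range → π g ∈ θ.range := by
    rintro ⟨_, m⟩ ⟨g, rfl⟩
    obtain ⟨c1, c2⟩ := mC'.1 m
    obtain ⟨q, hq, c, b, e, -⟩ := T.cS (g := g) (S := {p}) (by rwa [zS_single]) (Finset.mem_singleton_self p) false false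
    rw [Finset.mem_singleton.1 hq] at e
    have cm := T.fr.z_commute (T.fr.h_mem_J p true) p
    obtain ⟨k, k1, k2, k3, k4⟩ : ∃ k, ψ k ∈ F.VT {p} ∧ Commute k (T.fr.z p) ∧ Commute k (T.fr.h p true) ∧
        k.1 (inl ((p, false), false)) = inl ((p, c), b) := by
      cases c <;> cases b
      · exact ⟨1, by simp, by simp, by simp, rfl⟩
      · exact ⟨_, hz ▸ mz, .refl _, cm, by simp [T.z_l']⟩
      · exact ⟨_, mv, cm.symm, .refl _, by simp [T.t_l]⟩
      · exact ⟨_, map_mul ψ _ _ ▸ mul_mem mv (hz ▸ mz), cm.symm.mul_left (.refl _), (Commute.refl _).mul_left cm,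
          by simp [T.t_l, T.z_l']⟩
    have d1 := fun ω => congrArg (·.1 ω) (k2.inv_left.mul_left c1).eq
    have d2 := fun ω => congrArg (·.1 ω) (k3.inv_left.mul_left c2).eq
    have d0 : (k⁻¹ * g).1 (inl ((p, false), false)) = inl ((p, false), false) := by
      rw [Subgroup.coe_mul, mul_apply, e, ← k4]; simp
    obtain ⟨x, e⟩ := exι (k⁻¹ * g) (by
      generalize k⁻¹ * g = y at d0 d1 d2
      have a1 := d1 (inl ((p, false), false))
      have a2 := d2 (inl ((p, false), false))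
      have a3 := d1 (inl ((p, true), false))
      simp only [Subgroup.coe_mul, mul_apply, T.z_l', T.t_l, if_true, d0, Bool.not_false] at a1 a2 a3
      simp only [a2, T.z_l', if_true, Bool.not_false] at a3
      rintro (⟨⟨q, c⟩, b⟩ | x) m
      · rw [Finset.mem_singleton.1 (Tail.blk_l.1 m)]
        cases c <;> cases b <;> assumption
      · exact absurd m Tail.blk_r)
    refine ⟨x, (eq.2 ?_).symm⟩
    change (ψ g)⁻¹ * ψ (ι x) ∈ _
    rw [e, map_mul, map_inv, m _ (inv_mem k1), inv_mul_cancel_left]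
    exact inv_mem k1
  have cs : Fintype.card s + 4 = 4 * Fintype.card P + Fintype.card R := by
    have := (blk R {p}).card_add_card_compl
    simp only [card_blk, Finset.card_singleton, Fintype.card_sum, Fintype.card_prod, Fintype.card_bool] at this
    rw [Fintype.card_coe, add_comm, this]; omega
  have c5 : 5 ≤ Nat.card s := by
    have := Fintype.one_lt_card (α := P)
    have := Fintype.one_lt_card_iff.2 ⟨_, _, T.ne⟩
    rw [Nat.card_eq_fintype_card]; omega
  haveI := alternatingGroup.isSimpleGroup c5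
  obtain ⟨zt, e⟩ := exι (T.fr.zS (S.erase p)) fun ω m => notMem_support.1 (by
    rw [T.supp_zS]
    rcases ω with ⟨⟨q, c⟩, b⟩ | x
    · simpa [blk_l] using fun n => absurd (Finset.mem_singleton.1 (blk_l.1 m)) n
    · exact blk_r)
  have e' : (θ' zt).1 = F.zS (S.erase p) := by rw [← M.hzS, ← e]; rfl
  have n1 : θ zt ≠ 1 := fun k => by
    obtain ⟨f, -, a, b⟩ := mem_VT.1 (e' ▸ (QuotientGroup.eq_one_iff (θ' zt)).1 k : F.zS (S.erase p) ∈ F.VT {p})
    obtain ⟨q, hq⟩ := hp
    have := congrFun (F.inj b) q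
    rw [a q (by simpa using (Finset.mem_erase.1 hq).1), if_pos hq] at this
    exact absurd this (by decide)
  have i : Function.Injective θ := (MonoidHom.ker_eq_bot_iff θ).1 (θ.normal_ker.eq_bot_or_eq_top.resolve_right fun k =>
    n1 (MonoidHom.mem_ker.1 (k ▸ mem_top _)))
  have o : orderOf (θ zt) = 2 := Inv.orderOf_eq_two_iff.2 ⟨n1, by
    rw [← map_mul, show zt * zt = 1 from alternatingGroup.ofSubtype_injective (by
      rw [map_mul, map_one]; exact e ▸ (rk_zS _).sq), map_one]⟩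
  have dc : ∀ c, Commute c (F.z p) → ∃ m ∈ ψ.range, m * c ∈ C := fun c h => by
    rcases M.Vn h with k | k
    · exact ⟨1, one_mem _, by rw [one_mul]; exact mC.2 ⟨h, commute_iff_conj.2 k⟩⟩
    have c' := (F.z_commute (F.h_mem_J p false) p).symm
    refine ⟨_, F.h_eq p ▸ M.mE {(p, false)}, mC.2 ⟨c'.mul_left h, commute_iff_conj.2 ?_⟩⟩
    rw [show ∀ a : G, a * c * F.h p true * (a * c)⁻¹ = a * (c * F.h p true * c⁻¹) * a⁻¹ from fun a => by group, k, ← conj_mul,
      commute_iff_conj.1 c']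
    erw [(F.tv_k (fun _ => true) p).act _ (F.h_mem (fun _ => true) p) (F.k_moves (fun _ => true) p)]
    rw [mul_assoc, F.z_sq, mul_one]
  obtain ⟨ec⟩ := cenEquiv θ i (a := zt) fun g hg => by
    obtain ⟨g, rfl⟩ := QuotientGroup.mk'_surjective _ g
    change Commute (π g) (π _) at hg
    rw [commute_iff_conj, ← map_inv, ← map_mul, ← map_mul] at hg
    have c := M.comm_lift (T := {p}) (g := g.1) (U := S.erase p) (by simp) (e' ▸ eq.1 hg.symm)
    refine r2 g (hS _ ?_)
    by_cases k : p ∈ S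
    · rw [← Finset.insert_erase k, F.zS_insert (by simp)]; exact (mC.1 g.2).1.mul_right c
    · rwa [Finset.erase_eq_of_notMem k] at c
  have su := (i.bijective_of_nat_card_le (ih _ (fun H h => ?_) zt (orderOf_injective θ i zt ▸ o) _ o ec).1).2
  · refine M.fx_of ⟨_, hz⟩ (rk_z p) fun g h => ?_
    obtain ⟨m, a, b⟩ := dc g h
    obtain ⟨x, e⟩ := su (π ⟨_, b⟩)
    have := M.normJ (le_normalizer (F.A_le _ (VT_le (eq.1 e))))
    rwa [mul_mem_cancel_left (inv_mem (show (θ' x).1 ∈ ψ.range from ⟨_, rfl⟩)), mul_mem_cancel_left a] at this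
  haveI := normal_of_index_eq_two h
  have le : θ.range ≤ H := by
    rw [MonoidHom.range_eq_map, map_le_iff_le_comap, top_le_iff]
    refine (Normal.comap inferInstance θ).eq_bot_or_eq_top.resolve_left fun k => ?_
    have : EA (⊤ : Subgroup (alternatingGroup s)) := fun x _ =>
      mem_bot.1 (k ▸ (by simpa using mul_self_mem_of_index_two h (θ x) : x * x ∈ H.comap θ))
    exact mt (fun e : zt = 1 => by rw [e, map_one]) n1 (mem_bot.1 (alternatingGroup.center_eq_bot (α := s) (by omega) ▸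
      mem_center_iff.2 fun g => this.comm (mem_top _) (mem_top _)))
  obtain ⟨Q⟩ : Nonempty (Sylow 2 C) := inferInstance
  obtain ⟨U, h1, h2, h3, h4⟩ := exists_sylowIn_ge F.pJ (H := centralizer {F.z p}) fun g hg =>
    mem_centralizer_singleton_iff.2 (F.z_commute hg p).symm
  obtain ⟨c, hc, k⟩ := exists_conj_le_of_not_dvd_relIndex h3 h4 (Q.2.map C.subtype) fun g ⟨x, _, e⟩ =>
    mem_centralizer_singleton_iff.2 (e ▸ (mC.1 x.2).1)
  obtain ⟨m, a, b⟩ := dc c (mem_centralizer_singleton_iff.1 hc)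
  refine Q.not_dvd_index (((H.index_comap_of_surjective (f := π) (QuotientGroup.mk'_surjective _)).trans h).symm.dvd.trans
    (index_dvd_of_le fun x hx => ?_))
  have := le (r2 (⟨_, b⟩ * x * ⟨_, b⟩⁻¹) (by
    convert mul_mem (mul_mem a (M.normJ (F.le_norm_J h3 h1 (k (conj_mem_conj.2 ⟨x, hx, rfl⟩))))) (inv_mem a) using 1
    simp [mul_assoc]))
  rw [map_mul, map_mul, map_inv] at this
  simpa [mul_assoc] using Normal.conj_mem inferInstance _ this (π ⟨_, b⟩)⁻¹

theorem good_model {P R : Type} [Fintype P] [DecidableEq P] [Fintype R] [DecidableEq R] {α β : R} {τ : Perm R}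
    (T : Tail α β τ) (h1 : τ = 1 ↔ Fintype.card R = 2) (ih : ∀ p : P, Nontrivial P → Good.{v} ((blk R {p})ᶜ : Finset (Om P R))) :
    Good.{v} (Om P R) := fun G _ _ hG zt hzt z hz e => by
  obtain ⟨S, c⟩ := T.ex_zS (mul_self_of_orderOf hzt)
  have hS : S.Nonempty := S.eq_empty_or_nonempty.resolve_left fun k => ne_one_of_orderOf hzt (by
    rwa [k, zS_empty, isConj_one_left] at c)
  obtain ⟨g, c⟩ := isConj_iff.1 c
  obtain ⟨e'⟩ := cenEquiv (MulAut.conj g).toMonoidHom (MulAut.conj g).injective (a := zt) fun x _ =>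
    (MulAut.conj g).surjective x
  rw [show (MulAut.conj g).toMonoidHom zt = _ from c] at e'
  obtain ⟨F₀, ρ, M₀, ez, hρ⟩ := (T.mod hS).transport hz (e.trans e'.symm)
  obtain ⟨F, eS, M⟩ := M₀.alt (by rw [Transfer.pResidual_two_eq_top_iff.2 hG, top_sup_eq])
  rw [← eS] at ez
  have hτ : ρ = 1 ↔ τ = 1 := hρ.trans ⟨fun h => Equiv.ext fun x => inr_injective (congrArg (·.1 (inr x)) h),
    fun h => Subtype.ext (by subst h; exact sumCongr_one)⟩
  suffices Nonempty (G ≃* alternatingGroup (Om P R)) ∨ Nat.card G = 168 ∧ Fintype.card (Om P R) = 6 by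
    rcases this with ⟨⟨e⟩⟩ | ⟨a, b⟩
    · exact ⟨(Nat.card_congr e.toEquiv).le, fun _ => ⟨e⟩⟩
    · haveI := Fintype.one_lt_card_iff_nontrivial.1 (show 1 < Fintype.card (Om P R) by omega)
      rw [a, nat_card_alternatingGroup, Nat.card_eq_fintype_card, b]
      exact ⟨by decide, by omega⟩
  rcases subsingleton_or_nontrivial P with n | n
  · obtain ⟨p, -⟩ := hS
    letI := uniqueOfSubsingleton p
    have B : F.One ρ := ⟨M.toRho, fun c p => M.tv (fun _ => c) p⟩
    have cP : Fintype.card (Om P R) = 4 + Fintype.card R := by simp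
    have k : ∀ m, Fintype.card (Om P R) = m → Nonempty (G ≃* alternatingGroup (Fin m)) →
        Nonempty (G ≃* alternatingGroup (Om P R)) := fun m a ⟨b⟩ =>
      ⟨b.trans (Fintype.equivFinOfCardEq a).altCongrHom.symm⟩
    by_cases r : ρ = 1
    · have : Fintype.card (Om P R) = 6 := by rw [cP, h1.1 (hτ.1 r)]
      exact (B.base6 r).imp (k _ this) fun a => ⟨a, this⟩
    · have := mt h1.2 (mt hτ.2 r)
      have := T.le
      have := Fintype.one_lt_card_iff.2 ⟨_, _, T.ne⟩
      exact .inl (k 7 (by omega) (B.base7 r))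
  obtain ⟨ψ, E⟩ := exists_emb (T := T) M hτ.1
  obtain ⟨p, hp⟩ : ∃ p, (S.erase p).Nonempty :=
    let ⟨q, hq⟩ := hS; let ⟨p, n⟩ := exists_ne q; ⟨p, q, Finset.mem_erase.2 ⟨n.symm, hq⟩⟩
  refine .inl ⟨(MulEquiv.ofBijective ψ ⟨E.inj, E.surj (E.fx_one (fun g h => ?_) hp (ih p n))⟩).symm⟩
  have : (centralizer {T.fr.zS S}).map ψ = centralizer {F.zS S} := eq_of_le_of_card_ge (by
      rintro _ ⟨x, a, rfl⟩
      exact mem_centralizer_singleton_iff.2 (E.hzS S ▸ Commute.map (mem_centralizer_singleton_iff.1 a) ψ)) (by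
    rw [card_map_of_injective E.inj, ez]; exact (Nat.card_congr (e.trans e'.symm).toEquiv).le)
  exact map_le_range _ _ (this.ge (mem_centralizer_singleton_iff.2 h))

theorem Good.congr {Ω Ω' : Type*} [Fintype Ω] [DecidableEq Ω] [Fintype Ω'] [DecidableEq Ω'] (h : Good.{v} Ω) (f : Ω' ≃ Ω) :
    Good.{v} Ω' := fun G _ _ hG zt hzt z hz e => by
  obtain ⟨e'⟩ := cenEquiv f.altCongrHom.toMonoidHom f.altCongrHom.injective (a := zt) fun x _ => f.altCongrHom.surjective x
  obtain ⟨a, b⟩ := h G hG _ ((MulEquiv.orderOf_eq _ _).trans hzt) z hz (e.trans e'.symm)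
  exact ⟨a.trans (Nat.card_congr f.altCongrHom.toEquiv).ge, fun k =>
    ⟨(b (Fintype.card_congr f ▸ k)).some.trans f.altCongrHom.symm⟩⟩

theorem good (m : ℕ) (h6 : 6 ≤ m) (h : m % 4 = 2 ∨ m % 4 = 3) : Good.{v} (Fin m) := by
  induction m using Nat.strong_induction_on with
  | _ m ih =>
  have k : ∀ (r : ℕ) (α β : Fin r) (τ : Perm (Fin r)), Tail α β τ → (τ = 1 ↔ r = 2) → m % 4 = r → Good.{v} (Fin m) :=
    fun r α β τ T a b => by
      have c : Fintype.card (Om (Fin (m / 4)) (Fin r)) = m := by simp; omega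
      refine (good_model T (by simpa using a) fun p n => ?_).congr (Fintype.equivFinOfCardEq c).symm
      have := Fintype.one_lt_card (α := Fin (m / 4))
      rw [Fintype.card_fin] at this
      refine (ih (m - 4) (by omega) (by omega) (by omega)).congr (Fintype.equivFinOfCardEq ?_)
      rw [Fintype.card_coe, Finset.card_compl, c, card_blk]; rfl
  rcases h with h | h
  · exact k 2 0 1 1 ⟨by decide, by decide, by decide, by decide, fun σ h => ⟨0, by revert σ; decide⟩, by decide, by decide⟩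
      (by simp) h
  · refine k 3 0 1 (swap 0 1 * swap 1 2) ⟨by decide, by decide, by decide, by decide, fun σ h => ?_, by decide, by decide⟩
      (by decide) h
    obtain ⟨i, e⟩ := (by decide : ∀ σ : Perm (Fin 3), sign σ = 1 → ∃ i : Fin 3, σ = (swap 0 1 * swap 1 2) ^ i.1) σ h
    exact ⟨i.1, e⟩

end Cfsg.Lib.AltRec
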